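import Mathlib

set_option autoImplicit false

/-!
The combinatorial part of B&G 2.5: multiplicities `n i` (`i : ZMod h`) with
`∑ n i ^ 2 = m + 1` and `∑ n i * n (i + j) = m` for `j ≠ 0` are constant up to one value, which is off by one.
-/

namespace Cfsg.Agent.OddOrderLocal.ExtraCycle.Comb

open Finset

theorem sum_shift {h : ℕ} [NeZero h] (f : ZMod h → ℤ) (j : ZMod h) :
    ∑ i, f (i + j) = ∑ i, f i :=
  Fintype.sum_equiv (Equiv.addRight j) _ _ (fun _ => rfl)

theorem multiplicities (h : ℕ) [NeZero h] (n : ZMod h → ℤ) (m : ℤ)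
    (h0 : ∑ i, n i * n i = m + 1) (hj : ∀ j : ZMod h, j ≠ 0 → ∑ i, n i * n (i + j) = m) :
    ∃ c : ℤ, (∃ i, n i = c) ∧ (∀ i, c ≤ n i) ∧
      (∑ i, n i = h * c + 1 ∨ ∑ i, n i + 1 = h * (c + 1)) := by
  classical
  -- the minimum
  obtain ⟨i₀, -, hi₀⟩ := Finset.exists_min_image (Finset.univ : Finset (ZMod h)) n ⟨0, Finset.mem_univ _⟩
  have hi₀' : ∀ i, n i₀ ≤ n i := fun i => hi₀ i (Finset.mem_univ _)
  refine ⟨n i₀, ⟨i₀, rfl⟩, hi₀', ?_⟩
  set c := n i₀ with hc
  set d : ZMod h → ℤ := fun i => n i - c with hd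
  have hd0 : ∀ i, 0 ≤ d i := fun i => sub_nonneg.2 (hi₀' i)
  have hdi₀ : d i₀ = 0 := sub_self _
  -- differences
  have hdiff : ∀ j : ZMod h, j ≠ 0 → ∑ i, (d i - d (i + j)) ^ 2 = 2 := by
    intro j hj0
    have e1 : ∑ i, (d i - d (i + j)) ^ 2 =
        ∑ i, n i * n i + ∑ i, n (i + j) * n (i + j) - 2 * ∑ i, n i * n (i + j) := by
      rw [Finset.mul_sum, ← Finset.sum_add_distrib, ← Finset.sum_sub_distrib]
      refine Finset.sum_congr rfl fun i _ => ?_
      simp only [hd]; ring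
    rw [e1, sum_shift (fun i => n i * n i) j, h0, hj j hj0]; ring
  have hle1 : ∀ i, d i ≤ 1 := by
    intro i
    by_cases hi : i = i₀
    · rw [hi, hdi₀]; norm_num
    · have hj0 : i - i₀ ≠ 0 := sub_ne_zero.2 hi
      have h2 := hdiff (i - i₀) hj0
      have hne : i₀ ≠ i₀ - (i - i₀) := by
        intro h; apply hj0
        have : i₀ - (i₀ - (i - i₀)) = 0 := by rw [← h]; ring
        have e : i₀ - (i₀ - (i - i₀)) = i - i₀ := by ring
        rw [e] at this; exact this
      have h3 : ∑ k ∈ ({i₀, i₀ - (i - i₀)} : Finset (ZMod h)), (d k - d (k + (i - i₀))) ^ 2 ≤ 2 := by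
        rw [← h2]
        exact Finset.sum_le_sum_of_subset_of_nonneg (Finset.subset_univ _) (fun _ _ _ => sq_nonneg _)
      rw [Finset.sum_pair hne] at h3
      have e1 : i₀ + (i - i₀) = i := by ring
      have e2 : i₀ - (i - i₀) + (i - i₀) = i₀ := by ring
      rw [e1, e2, hdi₀] at h3
      have h4 : d i ^ 2 ≤ 2 := by nlinarith [sq_nonneg (d (i₀ - (i - i₀)) - 0)]
      have h5 := hd0 i
      nlinarith
  have hsq : ∀ i, d i * d i = d i := by
    intro i
    have h1 := hd0 i
    have h2 := hle1 i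
    interval_cases hdi : d i <;> norm_num
  set s := ∑ i, d i with hs
  have htot : ∑ j : ZMod h, ∑ i, (d i - d (i + j)) ^ 2 = 2 * ((h : ℤ) - 1) := by
    rw [← Finset.add_sum_erase Finset.univ _ (Finset.mem_univ (0 : ZMod h))]
    have e0 : ∑ i, (d i - d (i + 0)) ^ 2 = 0 := by
      refine Finset.sum_eq_zero fun i _ => ?_
      simp
    rw [e0, zero_add]
    have e1 : ∑ j ∈ Finset.univ.erase (0 : ZMod h), ∑ i, (d i - d (i + j)) ^ 2 =
        ∑ j ∈ Finset.univ.erase (0 : ZMod h), (2 : ℤ) :=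
      Finset.sum_congr rfl fun j hj' => hdiff j (Finset.ne_of_mem_erase hj')
    rw [e1, Finset.sum_const, Finset.card_erase_of_mem (Finset.mem_univ _), Finset.card_univ, ZMod.card,
      nsmul_eq_mul]
    have : 1 ≤ h := Nat.one_le_iff_ne_zero.2 (NeZero.ne h)
    push_cast [Nat.cast_sub this]
    ring
  have htot2 : ∑ j : ZMod h, ∑ i, (d i - d (i + j)) ^ 2 = 2 * ((h : ℤ) * s) - 2 * (s * s) := by
    have e1 : ∀ j : ZMod h, ∑ i, (d i - d (i + j)) ^ 2 = 2 * s - 2 * ∑ i, d i * d (i + j) := by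
      intro j
      have e2 : ∑ i, (d i - d (i + j)) ^ 2 =
          ∑ i, d i * d i + ∑ i, d (i + j) * d (i + j) - 2 * ∑ i, d i * d (i + j) := by
        rw [Finset.mul_sum, ← Finset.sum_add_distrib, ← Finset.sum_sub_distrib]
        refine Finset.sum_congr rfl fun i _ => ?_
        ring
      rw [e2, sum_shift (fun i => d i * d i) j]
      have e3 : ∑ i, d i * d i = s := by
        rw [hs]; exact Finset.sum_congr rfl fun i _ => hsq i
      rw [e3]; ring
    rw [Finset.sum_congr rfl fun j _ => e1 j, Finset.sum_sub_distrib, Finset.sum_const, Finset.card_univ,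
      ZMod.card, nsmul_eq_mul, ← Finset.mul_sum, Finset.sum_comm]
    have e4 : ∀ i : ZMod h, ∑ j, d i * d (i + j) = d i * s := by
      intro i
      rw [← Finset.mul_sum]
      congr 1
      have := sum_shift d i
      rw [hs, ← this]
      exact Finset.sum_congr rfl fun j _ => by rw [add_comm]
    rw [Finset.sum_congr rfl fun i _ => e4 i, ← Finset.sum_mul]
    ring
  have hfact : (s - 1) * ((h : ℤ) - 1 - s) = 0 := by
    have := htot.symm.trans htot2
    nlinarith
  have hsum : ∑ i, n i = h * c + s := by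
    have : ∑ i, n i = ∑ i, (d i + c) := Finset.sum_congr rfl fun i _ => by simp [hd]
    rw [this, Finset.sum_add_distrib, Finset.sum_const, Finset.card_univ, ZMod.card, nsmul_eq_mul]
    ring
  rcases mul_eq_zero.1 hfact with h1 | h1
  · left; rw [hsum]; linarith
  · right; rw [hsum]; linarith

end Cfsg.Agent.OddOrderLocal.ExtraCycle.Comb
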