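import Mathlib

set_option autoImplicit false

/-!
Diagonalisation of an operator of finite order over an algebraically closed field.
-/

namespace Cfsg.Agent.OddOrderLocal.ExtraCycle.Diag

open Module

theorem exists_eigenbasis {K : Type*} [Field K] [IsAlgClosed K] {W : Type*} [AddCommGroup W] [Module K W]
    [FiniteDimensional K W] (γ : Module.End K W) (h : ℕ) [NeZero h] (hh : (h : K) ≠ 0) (hγ : γ ^ h = 1)
    (ζ : K) (hζ : IsPrimitiveRoot ζ h) :
    ∃ (ι : Type) (_ : Fintype ι) (_ : DecidableEq ι) (b : Basis ι K W) (f : ι → ZMod h),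
      ∀ k, γ (b k) = ζ ^ (f k).val • b k := by
  classical
  have hsq : Squarefree (Polynomial.X ^ h - 1 : Polynomial K) :=
    (Polynomial.separable_X_pow_sub_C (1 : K) hh one_ne_zero).squarefree
  have hss : γ.IsSemisimple := by
    refine Module.End.isSemisimple_of_squarefree_aeval_eq_zero hsq ?_
    simp [hγ]
  have htop := hss.iSup_eigenspace_eq_top
  have hind := γ.eigenspaces_iSupIndep
  have hint : DirectSum.IsInternal (fun μ : K => Module.End.eigenspace γ μ) :=
    DirectSum.isInternal_submodule_of_iSupIndep_of_iSup_eq_top hind htop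
  let b₀ := hint.collectedBasis (fun μ => Module.finBasis K (Module.End.eigenspace γ μ))
  have hfin : Finite (Σ μ : K, Fin (finrank K (Module.End.eigenspace γ μ))) :=
    Module.Finite.finite_basis b₀
  have hft : Fintype (Σ μ : K, Fin (finrank K (Module.End.eigenspace γ μ))) := Fintype.ofFinite _
  let e := Fintype.equivFin (Σ μ : K, Fin (finrank K (Module.End.eigenspace γ μ)))
  let b := b₀.reindex e
  have hb : ∀ k, ∃ i : ZMod h, γ (b k) = ζ ^ i.val • b k := by
    intro k
    have h1 : b k = b₀ (e.symm k) := by simp [b]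
    have h2 : b₀ (e.symm k) ∈ Module.End.eigenspace γ (e.symm k).1 := hint.collectedBasis_mem _ _
    rw [← h1, Module.End.mem_eigenspace_iff] at h2
    have hbk : b k ≠ 0 := b.ne_zero k
    have h3 : ∀ n : ℕ, (γ ^ n) (b k) = (e.symm k).1 ^ n • b k := by
      intro n
      induction n with
      | zero => simp
      | succ n ih =>
        rw [pow_succ', Module.End.mul_apply, ih, map_smul, h2, smul_smul, pow_succ]
    have h4 := h3 h
    rw [hγ, Module.End.one_apply] at h4
    have h5 : (e.symm k).1 ^ h = 1 := by
      have : ((e.symm k).1 ^ h - 1) • b k = 0 := by rw [sub_smul, one_smul, ← h4, sub_self]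
      rcases smul_eq_zero.1 this with h | h
      · exact sub_eq_zero.1 h
      · exact absurd h hbk
    obtain ⟨i, hi, hi2⟩ := hζ.eq_pow_of_pow_eq_one h5
    refine ⟨(i : ZMod h), ?_⟩
    rw [ZMod.val_natCast_of_lt hi, hi2, h2]
  choose f hf using hb
  exact ⟨_, inferInstance, inferInstance, b, f, hf⟩

end Cfsg.Agent.OddOrderLocal.ExtraCycle.Diag
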