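import Mathlib

set_option autoImplicit false

/-!
Linear algebra for B&G 2.5: invariant subspaces, Schur's lemma, averaging, traces, in a form that does not
need group algebras.
-/

namespace Cfsg.Agent.OddOrderLocal.ExtraCycle.Lin

open Module

variable {K : Type*} [Field K] {P : Type*} [Group P] {V : Type*} [AddCommGroup V] [Module K V]

/-- a subspace invariant under the action -/
def Inv (ρ : P →* Module.End K V) (U : Submodule K V) : Prop := ∀ x, ∀ u ∈ U, ρ x u ∈ U

/-- an irreducible action -/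
def Irr (ρ : P →* Module.End K V) : Prop :=
  Nontrivial V ∧ ∀ U : Submodule K V, Inv ρ U → U = ⊥ ∨ U = ⊤

/-- restriction of the action to an invariant subspace -/
def restr (ρ : P →* Module.End K V) (U : Submodule K V) (hU : Inv ρ U) : P →* Module.End K U where
  toFun x := (ρ x).restrict (hU x)
  map_one' := by ext u; simp
  map_mul' x y := by ext u; simp

theorem restr_apply (ρ : P →* Module.End K V) (U : Submodule K V) (hU : Inv ρ U) (x : P) (u : U) :
    ((restr ρ U hU x u : U) : V) = ρ x u := rfl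

/-- a nonzero finite-dimensional space contains a nonzero minimal invariant subspace -/
theorem exists_irr [FiniteDimensional K V] (ρ : P →* Module.End K V) (V₀ : Submodule K V) (h0 : V₀ ≠ ⊥)
    (hV₀ : Inv ρ V₀) :
    ∃ (U : Submodule K V) (hU : Inv ρ U), U ≤ V₀ ∧ Irr (restr ρ U hU) := by
  classical
  have hex : ∃ n : ℕ, ∃ U : Submodule K V, Inv ρ U ∧ U ≠ ⊥ ∧ U ≤ V₀ ∧ finrank K U = n :=
    ⟨_, V₀, hV₀, h0, le_rfl, rfl⟩
  obtain ⟨U, hU, hU0, hUV, hUn⟩ := Nat.find_spec hex
  refine ⟨U, hU, hUV, ?_, ?_⟩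
  · exact Submodule.nontrivial_iff_ne_bot.2 hU0
  · intro S hS
    by_cases hSbot : S = ⊥
    · exact Or.inl hSbot
    right
    have hS' : Inv ρ (S.map U.subtype) := by
      rintro x _ ⟨s, hs, rfl⟩
      exact ⟨_, hS x s hs, rfl⟩
    have hne : S.map U.subtype ≠ ⊥ := by
      intro h
      apply hSbot
      rw [Submodule.eq_bot_iff] at h ⊢
      intro u hu
      have := h _ ⟨u, hu, rfl⟩
      exact Subtype.ext this
    have hle : S.map U.subtype ≤ U := by
      rintro _ ⟨s, -, rfl⟩; exact s.2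
    have h1 := Nat.find_min' hex ⟨_, hS', hne, hle.trans hUV, rfl⟩
    rw [← hUn] at h1
    have h2 := Submodule.eq_of_le_of_finrank_le hle h1
    apply Submodule.map_injective_of_injective U.subtype_injective
    rw [h2, Submodule.map_top, Submodule.range_subtype]

/-- Schur's lemma over an algebraically closed field -/
theorem schur [IsAlgClosed K] [FiniteDimensional K V] {ρ : P →* Module.End K V} (hρ : Irr ρ)
    (b : Module.End K V) (hb : ∀ x, b * ρ x = ρ x * b) : ∃ c : K, b = c • (1 : Module.End K V) := by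
  obtain ⟨hnt, hirr⟩ := hρ
  obtain ⟨c, hc⟩ := Module.End.exists_eigenvalue b
  refine ⟨c, ?_⟩
  have hinv : Inv ρ (Module.End.eigenspace b c) := by
    intro x u hu
    rw [Module.End.mem_eigenspace_iff] at hu ⊢
    have := LinearMap.congr_fun (hb x) u
    rw [Module.End.mul_apply, Module.End.mul_apply, hu, map_smul] at this
    exact this
  rcases hirr _ hinv with h | h
  · exact absurd h hc
  · ext v
    have : v ∈ Module.End.eigenspace b c := by rw [h]; trivial
    rw [Module.End.mem_eigenspace_iff] at this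
    simpa using this

section Central

/-- The class of actions considered: the centre acts by the scalars `ω`, nontrivial elements by nontrivial
scalars; commutators are central. -/
structure CentralChar (ρ : P →* Module.End K V) (ω : P → K) : Prop where
  comm : ∀ x y : P, x * y * x⁻¹ * y⁻¹ ∈ Subgroup.center P
  scalar : ∀ z ∈ Subgroup.center P, ρ z = ω z • (1 : Module.End K V)
  ne_one : ∀ z ∈ Subgroup.center P, z ≠ 1 → ω z ≠ 1

variable {ρ : P →* Module.End K V} {ω : P → K}

theorem CentralChar.exists_conj (hc : CentralChar ρ ω) {x : P} (hx : x ∉ Subgroup.center P) :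
    ∃ y z : P, z ∈ Subgroup.center P ∧ z ≠ 1 ∧ y * x * y⁻¹ = z * x := by
  rw [Subgroup.mem_center_iff] at hx
  push Not at hx
  obtain ⟨y, hy⟩ := hx
  refine ⟨y, y * x * y⁻¹ * x⁻¹, hc.comm y x, ?_, by group⟩
  intro h
  apply hy
  have : y * x = (y * x * y⁻¹ * x⁻¹) * (x * y) := by group
  rw [this, h, one_mul]

theorem CentralChar.restr (hc : CentralChar ρ ω) (U : Submodule K V) (hU : Inv ρ U) :
    CentralChar (Lin.restr ρ U hU) ω := by
  refine ⟨hc.comm, fun z hz => ?_, hc.ne_one⟩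
  ext u
  rw [restr_apply, hc.scalar z hz]
  rfl

/-- sum of the conjugates of a noncentral element vanishes -/
theorem sum_conj_eq_zero [Fintype P] (hc : CentralChar ρ ω) {x : P} (hx : x ∉ Subgroup.center P) :
    ∑ t : P, ρ (t⁻¹ * x * t) = 0 := by
  obtain ⟨y, z, hz, hz1, hyx⟩ := hc.exists_conj hx
  have h1 : ∑ t : P, ρ (t⁻¹ * x * t) = ∑ t : P, ρ ((y⁻¹ * t)⁻¹ * x * (y⁻¹ * t)) :=
    (Fintype.sum_equiv (Equiv.mulLeft y⁻¹) _ _ (fun _ => rfl)).symm
  have h2 : ∀ t : P, ρ ((y⁻¹ * t)⁻¹ * x * (y⁻¹ * t)) = ω z • ρ (t⁻¹ * x * t) := by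
    intro t
    have e : (y⁻¹ * t)⁻¹ * x * (y⁻¹ * t) = z * (t⁻¹ * x * t) := by
      have : (y⁻¹ * t)⁻¹ * x * (y⁻¹ * t) = t⁻¹ * (y * x * y⁻¹) * t := by group
      rw [this, hyx]
      have hzt := Subgroup.mem_center_iff.1 hz t⁻¹
      rw [← mul_assoc, hzt]; group
    rw [e, map_mul, hc.scalar z hz, smul_mul_assoc, one_mul]
  rw [Finset.sum_congr rfl fun t _ => h2 t, ← Finset.smul_sum] at h1
  have h3 : (1 - ω z) • ∑ t : P, ρ (t⁻¹ * x * t) = 0 := by
    rw [sub_smul, one_smul, ← h1, sub_self]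
  rcases smul_eq_zero.1 h3 with h | h
  · exact absurd (sub_eq_zero.1 h).symm (hc.ne_one z hz hz1)
  · exact h

theorem trace_eq_zero (hc : CentralChar ρ ω) {x : P} (hx : x ∉ Subgroup.center P) :
    LinearMap.trace K V (ρ x) = 0 := by
  obtain ⟨y, z, hz, hz1, hyx⟩ := hc.exists_conj hx
  have h1 : LinearMap.trace K V (ρ (y * x * y⁻¹)) = LinearMap.trace K V (ρ x) := by
    rw [map_mul, LinearMap.trace_mul_comm, ← map_mul]
    congr 2; group
  rw [hyx, map_mul, hc.scalar z hz, smul_mul_assoc, one_mul, map_smul, smul_eq_mul] at h1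
  have h3 : (1 - ω z) * LinearMap.trace K V (ρ x) = 0 := by
    rw [sub_mul, one_mul, h1, sub_self]
  rcases mul_eq_zero.1 h3 with h | h
  · exact absurd (sub_eq_zero.1 h).symm (hc.ne_one z hz hz1)
  · exact h

theorem mem_center_inv_iff (x : P) : x⁻¹ ∈ Subgroup.center P ↔ x ∈ Subgroup.center P :=
  Subgroup.inv_mem_iff _

/-- `∑_s ρ(s) b (∑_t ρ(t⁻¹ s⁻¹ t)) = |Z| |P| b` -/
theorem reconstruct [Fintype P] (hc : CentralChar ρ ω) (b : Module.End K V) :
    ∑ t : P, (∑ s : P, ρ s * (b * ρ t⁻¹) * ρ s⁻¹) * ρ t =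
      ((Nat.card (Subgroup.center P) * Nat.card P : ℕ) : K) • b := by
  classical
  have h1 : ∑ t : P, (∑ s : P, ρ s * (b * ρ t⁻¹) * ρ s⁻¹) * ρ t =
      ∑ s : P, ρ s * b * ∑ t : P, ρ (t⁻¹ * s⁻¹ * t) := by
    simp_rw [Finset.sum_mul, Finset.mul_sum]
    rw [Finset.sum_comm]
    refine Finset.sum_congr rfl fun s _ => Finset.sum_congr rfl fun t _ => ?_
    rw [map_mul, map_mul]
    simp only [mul_assoc]
  rw [h1]
  have h2 : ∀ s : P, ρ s * b * ∑ t : P, ρ (t⁻¹ * s⁻¹ * t) =
      if s ∈ Subgroup.center P then (Nat.card P : K) • b else 0 := by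
    intro s
    split_ifs with hs
    · have e : ∀ t : P, ρ (t⁻¹ * s⁻¹ * t) = ρ s⁻¹ := by
        intro t
        have := Subgroup.mem_center_iff.1 ((mem_center_inv_iff s).2 hs) t⁻¹
        rw [this]; congr 1; group
      rw [Finset.sum_congr rfl fun t _ => e t, Finset.sum_const, Finset.card_univ,
        ← Nat.card_eq_fintype_card, ← Nat.cast_smul_eq_nsmul K, mul_smul_comm]
      congr 1
      rw [hc.scalar s hs, smul_mul_assoc, one_mul, hc.scalar _ ((mem_center_inv_iff s).2 hs),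
        mul_smul_comm, mul_one, smul_smul]
      have : ω s⁻¹ • ω s • (1 : Module.End K V) = 1 := by
        rw [← hc.scalar s hs, ← one_mul (ρ s), ← smul_mul_assoc,
          ← hc.scalar _ ((mem_center_inv_iff s).2 hs), ← map_mul]
        simp
      have h3 : (ω s⁻¹ * ω s) • b = b := by
        rw [mul_smul, ← one_mul b, ← smul_mul_assoc, ← smul_mul_assoc, this]
      exact h3
    · rw [sum_conj_eq_zero hc (fun h => hs ((mem_center_inv_iff s).1 h)), mul_zero]
  rw [Finset.sum_congr rfl fun s _ => h2 s, ← Finset.sum_filter, Finset.sum_const, ← Nat.cast_smul_eq_nsmul K,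
    smul_smul, Nat.cast_mul]
  congr 3
  rw [Nat.card_eq_fintype_card, Fintype.card_subtype]

/-- the average `∑ ρ(s) b ρ(s⁻¹)` is a scalar -/
theorem exists_avg [Fintype P] [IsAlgClosed K] [FiniteDimensional K V] (hρ : Irr ρ) (b : Module.End K V) :
    ∃ c : K, ∑ s : P, ρ s * b * ρ s⁻¹ = c • (1 : Module.End K V) := by
  apply schur hρ
  intro x
  rw [Finset.sum_mul, Finset.mul_sum]
  have h1 : ∀ s : P, ρ s * b * ρ s⁻¹ * ρ x = ρ x * (ρ (x⁻¹ * s) * b * ρ (x⁻¹ * s)⁻¹) := by
    intro s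
    rw [mul_assoc _ (ρ s⁻¹), ← map_mul, ← mul_assoc (ρ x), ← mul_assoc (ρ x), ← map_mul]
    congr 3
    · group
    · group
  rw [Finset.sum_congr rfl fun s _ => h1 s]
  exact Fintype.sum_equiv (Equiv.mulLeft x⁻¹) _ _ (fun _ => rfl)

theorem trace_avg [Fintype P] (b : Module.End K V) :
    LinearMap.trace K V (∑ s : P, ρ s * b * ρ s⁻¹) = (Nat.card P : K) * LinearMap.trace K V b := by
  rw [map_sum]
  have h1 : ∀ s : P, LinearMap.trace K V (ρ s * b * ρ s⁻¹) = LinearMap.trace K V b := by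
    intro s
    rw [LinearMap.trace_mul_comm, ← mul_assoc, ← map_mul]
    simp
  rw [Finset.sum_congr rfl fun s _ => h1 s, Finset.sum_const, Finset.card_univ,
    ← Nat.card_eq_fintype_card, nsmul_eq_mul]

theorem finrank_ne_zero [Fintype P] [IsAlgClosed K] [FiniteDimensional K V] (hρ : Irr ρ)
    (hP : (Nat.card P : K) ≠ 0) : (finrank K V : K) ≠ 0 := by
  intro h0
  obtain ⟨hnt, -⟩ := id hρ
  obtain ⟨v, hv⟩ := exists_ne (0 : V)
  obtain ⟨f, hf⟩ := Module.Projective.exists_dual_eq_one K hv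
  obtain ⟨c, hc⟩ := exists_avg hρ (f.smulRight v)
  have h1 := trace_avg (ρ := ρ) (f.smulRight v)
  rw [hc, map_smul, LinearMap.trace_one, h0, smul_zero, LinearMap.trace_smulRight, hf, mul_one] at h1
  exact hP h1.symm

/-- the operators `ρ(x)` span: an operator orthogonal to all of them for the trace form vanishes -/
theorem eq_zero_of_trace [Fintype P] [IsAlgClosed K] [FiniteDimensional K V] (hρ : Irr ρ)
    (hc : CentralChar ρ ω) (hP : (Nat.card P : K) ≠ 0) (hZ : (Nat.card (Subgroup.center P) : K) ≠ 0)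
    (b : Module.End K V) (hb : ∀ t : P, LinearMap.trace K V (b * ρ t⁻¹) = 0) : b = 0 := by
  have h1 := reconstruct hc b
  have h2 : ∀ t : P, (∑ s : P, ρ s * (b * ρ t⁻¹) * ρ s⁻¹) * ρ t = 0 := by
    intro t
    obtain ⟨c, hct⟩ := exists_avg hρ (b * ρ t⁻¹)
    have h3 := trace_avg (ρ := ρ) (b * ρ t⁻¹)
    rw [hct, map_smul, LinearMap.trace_one, hb t, mul_zero, smul_eq_mul] at h3
    rcases mul_eq_zero.1 h3 with h | h
    · rw [hct, h, zero_smul, zero_mul]
    · exact absurd h (finrank_ne_zero hρ hP)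
  rw [Finset.sum_congr rfl fun t _ => h2 t, Finset.sum_const_zero] at h1
  rcases smul_eq_zero.1 h1.symm with h | h
  · rw [Nat.cast_mul] at h
    exact absurd h (mul_ne_zero hZ hP)
  · exact h

/-- existence of an operator implementing an automorphism trivial on the centre -/
theorem exists_intertwiner [Fintype P] [FiniteDimensional K V] (hρ : Irr ρ)
    (hc : CentralChar ρ ω) (hP : (Nat.card P : K) ≠ 0) (hZ : (Nat.card (Subgroup.center P) : K) ≠ 0)
    (α : MulAut P) (hα : ∀ z ∈ Subgroup.center P, α z = z) :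
    ∃ T : Module.End K V, T ≠ 0 ∧ ∀ x, T * ρ x = ρ (α x) * T := by
  classical
  by_contra hcon
  push Not at hcon
  -- the candidates
  have hT : ∀ b : Module.End K V, ∑ x : P, ρ (α x) * b * ρ x⁻¹ = 0 := by
    intro b
    by_contra hne
    obtain ⟨y, hy⟩ := hcon _ hne
    apply hy
    rw [Finset.sum_mul, Finset.mul_sum]
    have h1 : ∀ x : P, ρ (α x) * b * ρ x⁻¹ * ρ y = ρ (α y) * (ρ (α (y⁻¹ * x)) * b * ρ (y⁻¹ * x)⁻¹) := by
      intro x
      rw [mul_assoc _ (ρ x⁻¹), ← map_mul, ← mul_assoc (ρ (α y)), ← mul_assoc (ρ (α y)), ← map_mul, ← map_mul]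
      congr 3
      · group
      · group
    rw [Finset.sum_congr rfl fun x _ => h1 x]
    exact Fintype.sum_equiv (Equiv.mulLeft y⁻¹) _ _ (fun _ => rfl)
  have hnt := hρ.1
  obtain ⟨u, hu⟩ := exists_ne (0 : V)
  obtain ⟨f, hf⟩ := Module.Projective.exists_dual_eq_one K hu
  -- the operator S = ∑ f(ρ(x⁻¹) u) ρ(α x) vanishes
  have hS : ∑ x : P, f (ρ x⁻¹ u) • ρ (α x) = 0 := by
    ext v
    have h2 := LinearMap.congr_fun (hT (f.smulRight v)) u
    rw [LinearMap.sum_apply] at h2 ⊢
    rw [LinearMap.zero_apply] at h2 ⊢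
    rw [← h2]
    refine Finset.sum_congr rfl fun x _ => ?_
    simp [Module.End.mul_apply]
  have hmem : ∀ x : P, α x ∈ Subgroup.center P ↔ x ∈ Subgroup.center P := by
    intro x
    constructor
    · intro h
      have := hα _ h
      rw [α.injective this] at h
      exact h
    · intro h; rw [hα x h]; exact h
  have hS2 : ∑ t : P, ρ t⁻¹ * (∑ x : P, f (ρ x⁻¹ u) • ρ (α x)) * ρ t =
      ((Nat.card (Subgroup.center P) * Nat.card P : ℕ) : K) • (1 : Module.End K V) := by
    have h3 : ∑ t : P, ρ t⁻¹ * (∑ x : P, f (ρ x⁻¹ u) • ρ (α x)) * ρ t =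
        ∑ x : P, f (ρ x⁻¹ u) • ∑ t : P, ρ (t⁻¹ * α x * t) := by
      simp_rw [Finset.mul_sum, Finset.sum_mul, Finset.smul_sum]
      rw [Finset.sum_comm]
      refine Finset.sum_congr rfl fun x _ => Finset.sum_congr rfl fun t _ => ?_
      rw [map_mul, map_mul, mul_smul_comm, smul_mul_assoc]
    rw [h3]
    have h4 : ∀ x : P, f (ρ x⁻¹ u) • ∑ t : P, ρ (t⁻¹ * α x * t) =
        if x ∈ Subgroup.center P then (Nat.card P : K) • (1 : Module.End K V) else 0 := by
      intro x
      split_ifs with hx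
      · rw [hα x hx]
        have e : ∀ t : P, ρ (t⁻¹ * x * t) = ρ x := by
          intro t
          have := Subgroup.mem_center_iff.1 hx t⁻¹
          rw [this]; congr 1; group
        rw [Finset.sum_congr rfl fun t _ => e t, Finset.sum_const, Finset.card_univ,
          ← Nat.card_eq_fintype_card, ← Nat.cast_smul_eq_nsmul K]
        have h5 : f (ρ x⁻¹ u) • ρ x = 1 := by
          have hx' := (mem_center_inv_iff x).2 hx
          rw [hc.scalar _ hx', LinearMap.smul_apply, Module.End.one_apply, map_smul, hf, smul_eq_mul, mul_one]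
          rw [← one_mul (ρ x), ← smul_mul_assoc, ← hc.scalar _ hx', ← map_mul]
          simp
        rw [smul_comm, h5]
      · rw [sum_conj_eq_zero hc (fun h => hx ((hmem x).1 h)), smul_zero]
    rw [Finset.sum_congr rfl fun x _ => h4 x, ← Finset.sum_filter, Finset.sum_const,
      ← Nat.cast_smul_eq_nsmul K, smul_smul, Nat.cast_mul]
    congr 3
    rw [Nat.card_eq_fintype_card, Fintype.card_subtype]
  rw [hS] at hS2
  simp only [mul_zero, zero_mul, Finset.sum_const_zero] at hS2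
  have h6 := LinearMap.congr_fun hS2 u
  rw [LinearMap.zero_apply, LinearMap.smul_apply, Module.End.one_apply] at h6
  rcases smul_eq_zero.1 h6.symm with h | h
  · rw [Nat.cast_mul] at h
    exact mul_ne_zero hZ hP h
  · exact hu h

/-- an intertwiner for an irreducible action is invertible -/
theorem intertwiner_inverse [FiniteDimensional K V] (hρ : Irr ρ) (α : MulAut P) (T : Module.End K V)
    (hT0 : T ≠ 0) (hT : ∀ x, T * ρ x = ρ (α x) * T) :
    ∃ S : Module.End K V, T * S = 1 ∧ S * T = 1 := by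
  have hker : LinearMap.ker T = ⊥ := by
    have hinv : Inv ρ (LinearMap.ker T) := by
      intro x u hu
      rw [LinearMap.mem_ker] at hu ⊢
      have := LinearMap.congr_fun (hT x) u
      rw [Module.End.mul_apply, Module.End.mul_apply, hu, map_zero] at this
      exact this
    rcases hρ.2 _ hinv with h | h
    · exact h
    · exact absurd (LinearMap.ker_eq_top.1 h) hT0
  let E := LinearEquiv.ofInjectiveEndo T (LinearMap.ker_eq_bot.1 hker)
  refine ⟨E.symm.toLinearMap, ?_, ?_⟩
  · ext v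
    exact E.apply_symm_apply v
  · ext v
    exact E.symm_apply_apply v

theorem exists_irr_extension [Fintype P] [IsAlgClosed K] [FiniteDimensional K V] [Nontrivial V]
    (hc : CentralChar ρ ω) (hP : (Nat.card P : K) ≠ 0) (hZ : (Nat.card (Subgroup.center P) : K) ≠ 0)
    (α : MulAut P) (hα : ∀ z ∈ Subgroup.center P, α z = z)
    (γ : Module.End K V) (hγρ : ∀ x, γ * ρ x = ρ (α x) * γ) :
    ∃ (W : Submodule K V) (hW : Inv ρ W), (∀ w ∈ W, γ w ∈ W) ∧ Irr (restr ρ W hW) := by
  obtain ⟨U, hU, -, hirr⟩ := exists_irr ρ ⊤ top_ne_bot (fun _ _ _ => trivial)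
  obtain ⟨T, hT0, hT⟩ := exists_intertwiner hirr (hc.restr U hU) hP hZ α hα
  obtain ⟨S, hTS, hST⟩ := intertwiner_inverse hirr α T hT0 hT
  have hS : ∀ x, S * restr ρ U hU (α x) = restr ρ U hU x * S := by
    intro x
    calc S * restr ρ U hU (α x) = S * (restr ρ U hU (α x) * (T * S)) := by rw [hTS, mul_one]
      _ = S * (T * restr ρ U hU x) * S := by rw [hT]; simp only [mul_assoc]
      _ = restr ρ U hU x * S := by rw [← mul_assoc S T, hST, one_mul]
  -- the space of intertwiners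
  let H : Submodule K (U →ₗ[K] V) :=
    { carrier := {η | ∀ x, η ∘ₗ restr ρ U hU x = ρ x ∘ₗ η}
      add_mem' := by
        intro a b ha hb x
        rw [LinearMap.add_comp, LinearMap.comp_add, ha x, hb x]
      zero_mem' := by intro x; rw [LinearMap.zero_comp, LinearMap.comp_zero]
      smul_mem' := by
        intro c a ha x
        rw [LinearMap.smul_comp, LinearMap.comp_smul, ha x] }
  have hmemH : ∀ η : U →ₗ[K] V, η ∈ H ↔ ∀ x, η ∘ₗ restr ρ U hU x = ρ x ∘ₗ η := fun _ => Iff.rfl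
  have hH0 : U.subtype ∈ H := by
    rw [hmemH]; intro x; ext u; rfl
  have hHnt : Nontrivial H := by
    refine ⟨⟨⟨U.subtype, hH0⟩, 0, fun h => ?_⟩⟩
    have h' : U.subtype = 0 := congrArg Subtype.val h
    have hnt := hirr.1
    obtain ⟨u, hu⟩ := exists_ne (0 : U)
    apply hu
    have := LinearMap.congr_fun h' u
    exact Subtype.ext this
  have hΘ : ∀ η ∈ H, γ ∘ₗ η ∘ₗ S ∈ H := by
    intro η hη x
    obtain ⟨y, rfl⟩ : ∃ y, α y = x := ⟨α.symm x, α.apply_symm_apply x⟩
    have e1 : S ∘ₗ restr ρ U hU (α y) = restr ρ U hU y ∘ₗ S := hS y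
    have e2 : γ ∘ₗ ρ y = ρ (α y) ∘ₗ γ := hγρ y
    rw [LinearMap.comp_assoc, LinearMap.comp_assoc, e1, ← LinearMap.comp_assoc (g := restr ρ U hU y), hη y,
      LinearMap.comp_assoc, ← LinearMap.comp_assoc (g := ρ y), e2, LinearMap.comp_assoc]
  let Θ : Module.End K H :=
    { toFun := fun η => ⟨γ ∘ₗ η.1 ∘ₗ S, hΘ η.1 η.2⟩
      map_add' := by
        intro a b
        apply Subtype.ext
        show γ ∘ₗ (a.1 + b.1) ∘ₗ S = γ ∘ₗ a.1 ∘ₗ S + γ ∘ₗ b.1 ∘ₗ S
        rw [LinearMap.add_comp, LinearMap.comp_add]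
      map_smul' := by
        intro c a
        apply Subtype.ext
        show γ ∘ₗ (c • a.1) ∘ₗ S = c • (γ ∘ₗ a.1 ∘ₗ S)
        rw [LinearMap.smul_comp, LinearMap.comp_smul] }
  obtain ⟨μ, hμ⟩ := Module.End.exists_eigenvalue Θ
  obtain ⟨⟨η, hη⟩, hημ, hη0⟩ := hμ.exists_hasEigenvector
  rw [Module.End.mem_eigenspace_iff] at hημ
  have hημ' : γ ∘ₗ η ∘ₗ S = μ • η := congrArg Subtype.val hημ
  have hη0' : η ≠ 0 := fun h => hη0 (Subtype.ext h)
  have hηx : ∀ x u, η (restr ρ U hU x u) = ρ x (η u) := fun x u => LinearMap.congr_fun (hη x) u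
  have hker : LinearMap.ker η = ⊥ := by
    rcases hirr.2 (LinearMap.ker η) (by
      intro x u hu
      rw [LinearMap.mem_ker] at hu ⊢
      rw [hηx, hu, map_zero]) with h | h
    · exact h
    · exact absurd (LinearMap.ker_eq_top.1 h) hη0'
  have hinj : Function.Injective η := LinearMap.ker_eq_bot.1 hker
  have hWinv : Inv ρ (LinearMap.range η) := by
    rintro x _ ⟨u, rfl⟩
    exact ⟨_, hηx x u⟩
  refine ⟨LinearMap.range η, hWinv, ?_, ?_, ?_⟩
  · rintro _ ⟨u, rfl⟩
    have h1 := LinearMap.congr_fun hημ' (T u)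
    have h2 : S (T u) = u := LinearMap.congr_fun hST u
    rw [LinearMap.comp_apply, LinearMap.comp_apply, h2, LinearMap.smul_apply, ← map_smul] at h1
    exact ⟨_, h1.symm⟩
  · have hnt := hirr.1
    obtain ⟨u, hu⟩ := exists_ne (0 : U)
    refine ⟨⟨⟨η u, ⟨u, rfl⟩⟩, 0, fun h => hu (hinj ?_)⟩⟩
    rw [map_zero]
    exact congrArg Subtype.val h
  · intro W' hW'
    -- pull back to U
    let W'' : Submodule K U := (W'.map (LinearMap.range η).subtype).comap η
    have hinv : Inv ρ (W'.map (LinearMap.range η).subtype) := by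
      rintro x _ ⟨w, hw, rfl⟩
      exact ⟨_, hW' x w hw, rfl⟩
    have hW''inv : Inv (restr ρ U hU) W'' := by
      intro x u hu
      show η (restr ρ U hU x u) ∈ W'.map (LinearMap.range η).subtype
      rw [hηx]
      exact hinv x _ hu
    rcases hirr.2 W'' hW''inv with h | h
    · left
      rw [Submodule.eq_bot_iff]
      rintro ⟨w, ⟨u, rfl⟩⟩ hw
      have : u ∈ W'' := ⟨_, hw, rfl⟩
      rw [h, Submodule.mem_bot] at this
      apply Subtype.ext
      show η u = 0
      rw [this, map_zero]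
    · right
      rw [eq_top_iff]
      rintro ⟨w, ⟨u, rfl⟩⟩ -
      have : u ∈ W'' := by rw [h]; trivial
      obtain ⟨w', hw', hw''⟩ := this
      have e : w' = ⟨η u, ⟨u, rfl⟩⟩ := Subtype.ext hw''
      rw [← e]; exact hw'

end Central

end Cfsg.Agent.OddOrderLocal.ExtraCycle.Lin
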