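import Mathlib

set_option autoImplicit false

/-!
The free action of `Z(P) × ⟨α⟩` on `P \ Z(P)` and its orbit count.
-/

namespace Cfsg.Agent.OddOrderLocal.ExtraCycle.Orbits

variable {P : Type*} [Group P]

theorem zpowers_fix {α : MulAut P} (hα : ∀ z ∈ Subgroup.center P, α z = z)
    {a : MulAut P} (ha : a ∈ Subgroup.zpowers α) : ∀ z ∈ Subgroup.center P, a z = z := by
  intro z hz
  let S : Subgroup (MulAut P) :=
    { carrier := {a | a z = z}
      mul_mem' := by
        intro a b ha hb
        show a (b z) = z
        rw [show b z = z from hb, show a z = z from ha]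
      one_mem' := rfl
      inv_mem' := by
        intro a ha
        show a⁻¹ z = z
        conv_lhs => rw [← show a z = z from ha]
        exact a.symm_apply_apply z }
  have : Subgroup.zpowers α ≤ S := by
    rw [Subgroup.zpowers_le]; exact hα z hz
  exact this ha

theorem notMem_center {α : MulAut P} (hα : ∀ z ∈ Subgroup.center P, α z = z)
    {a : MulAut P} (ha : a ∈ Subgroup.zpowers α) {x : P} (hx : x ∉ Subgroup.center P) :
    a x ∉ Subgroup.center P := by
  intro h
  have h1 := zpowers_fix hα ha _ h
  have h2 := a.injective h1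
  exact hx (h2 ▸ h)

/-- the action of `Z(P) × ⟨α⟩` on the noncentral elements -/
@[reducible] def action (α : MulAut P) (hα : ∀ z ∈ Subgroup.center P, α z = z) :
    MulAction (Subgroup.center P × Subgroup.zpowers α) {x : P // x ∉ Subgroup.center P} where
  smul g x := ⟨(g.1 : P) * (g.2 : MulAut P) x.1, by
    intro h
    have := (Subgroup.mul_mem_cancel_left _ g.1.2).1 h
    exact notMem_center hα g.2.2 x.2 this⟩
  one_smul x := by
    apply Subtype.ext
    show (1 : P) * (1 : MulAut P) x.1 = x.1
    simp
  mul_smul g g' x := by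
    apply Subtype.ext
    show (g.1 * g'.1 : P) * ((g.2 : MulAut P) * (g'.2 : MulAut P)) x.1 =
      (g.1 : P) * (g.2 : MulAut P) ((g'.1 : P) * (g'.2 : MulAut P) x.1)
    rw [map_mul, zpowers_fix hα g.2.2 _ g'.1.2, MulAut.mul_apply, mul_assoc]

/-- the number of orbits -/
theorem card_eq [Finite P] (p n h : ℕ) (hp : 0 < p) (hZ : Nat.card (Subgroup.center P) = p)
    (hPc : Nat.card P = p ^ (2 * n + 1)) (α : MulAut P) (hα : ∀ z ∈ Subgroup.center P, α z = z)
    (hord : orderOf α = h)
    (hfree : ∀ a ∈ Subgroup.zpowers α, a ≠ 1 → ∀ x : P, x ∉ Subgroup.center P →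
      ∀ z ∈ Subgroup.center P, z * a x ≠ x) :
    letI := action α hα
    p ^ (2 * n) = 1 + h * Nat.card (Quotient (MulAction.orbitRel
      (Subgroup.center P × Subgroup.zpowers α) {x : P // x ∉ Subgroup.center P})) := by
  letI := action α hα
  have hstab : ∀ b : {x : P // x ∉ Subgroup.center P},
      MulAction.stabilizer (Subgroup.center P × Subgroup.zpowers α) b = ⊥ := by
    intro b
    rw [Subgroup.eq_bot_iff_forall]
    rintro ⟨z, a⟩ hza
    rw [MulAction.mem_stabilizer_iff] at hza
    have h1 : (z : P) * (a : MulAut P) b.1 = b.1 := congrArg Subtype.val hza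
    by_cases ha : (a : MulAut P) = 1
    · rw [ha] at h1
      have h2 : (z : P) = 1 := by simpa using h1
      exact Prod.ext (Subtype.ext h2) (Subtype.ext ha)
    · exact absurd h1 (hfree a a.2 ha b.1 b.2 z z.2)
  have e := MulAction.selfEquivOrbitsQuotientProd hstab
  have h1 := Nat.card_congr e
  rw [Nat.card_prod, Nat.card_prod, hZ, Nat.card_zpowers, hord] at h1
  have h2 : Nat.card {x : P // x ∉ Subgroup.center P} + p = p ^ (2 * n + 1) := by
    rw [← hPc, ← hZ]
    classical
    have := Fintype.ofFinite P
    rw [Nat.card_eq_fintype_card, Nat.card_eq_fintype_card, Nat.card_eq_fintype_card,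
      Fintype.card_subtype_compl, Nat.sub_add_cancel]
    · exact Fintype.card_subtype_le _
  rw [h1] at h2
  have h3 : p * (p ^ (2 * n)) = p * (1 + h * Nat.card (Quotient (MulAction.orbitRel
      (Subgroup.center P × Subgroup.zpowers α) {x : P // x ∉ Subgroup.center P}))) := by
    rw [← pow_succ', ← h2]; ring
  exact Nat.eq_of_mul_eq_mul_left hp h3

end Cfsg.Agent.OddOrderLocal.ExtraCycle.Orbits
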