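import Mathlib
import Cfsg.Agent.OddOrderLocal.ExtraCycle.Comb
import Cfsg.Agent.OddOrderLocal.ExtraCycle.Lin
import Cfsg.Agent.OddOrderLocal.ExtraCycle.Diag
import Cfsg.Agent.OddOrderLocal.ExtraCycle.Orbits

set_option autoImplicit false

/-!
B&G 2.5 for an irreducible module over an algebraically closed field.
-/

namespace Cfsg.Agent.OddOrderLocal.ExtraCycle.Irred

open Module Cfsg.Agent.OddOrderLocal.ExtraCycle.Lin Cfsg.Agent.OddOrderLocal.ExtraCycle.Orbits

variable {K : Type*} [Field K] {P : Type*} [Group P] {W : Type*} [AddCommGroup W] [Module K W]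

/-- the operators `ρ(x)`, `x` in a transversal of the centre, are linearly independent -/
theorem card_quot_le [Finite P] [FiniteDimensional K W] {ρ : P →* Module.End K W} {ω : P → K}
    (hc : CentralChar ρ ω) (hN : (finrank K W : K) ≠ 0) :
    Nat.card (P ⧸ Subgroup.center P) ≤ finrank K W * finrank K W := by
  classical
  have := Fintype.ofFinite (P ⧸ Subgroup.center P)
  have hli : LinearIndependent K (fun q : P ⧸ Subgroup.center P => ρ q.out) := by
    rw [Fintype.linearIndependent_iff]
    intro c hc0 q₀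
    have h1 := congrArg (fun b : Module.End K W => LinearMap.trace K W (b * ρ (q₀.out)⁻¹)) hc0
    simp only [Finset.sum_mul, smul_mul_assoc, map_sum, map_smul, ← map_mul, zero_mul, map_zero] at h1
    rw [Finset.sum_eq_single q₀] at h1
    · rw [mul_inv_cancel, map_one, LinearMap.trace_one, smul_eq_mul] at h1
      exact (mul_eq_zero.1 h1).resolve_right hN
    · intro q _ hq
      rw [trace_eq_zero hc, smul_zero]
      intro hmem
      apply hq
      have h2 : (q.out : P ⧸ Subgroup.center P) = (q₀.out : P ⧸ Subgroup.center P) := by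
        rw [QuotientGroup.eq]
        have h3 : (q.out)⁻¹ * q₀.out = (q.out)⁻¹ * (q.out * (q₀.out)⁻¹)⁻¹ * q.out := by group
        rw [h3]
        have h4 : (q.out * (q₀.out)⁻¹)⁻¹ ∈ Subgroup.center P := Subgroup.inv_mem _ hmem
        have h5 := Subgroup.mem_center_iff.1 h4 (q.out)⁻¹
        rw [h5]
        simpa using h4
      rwa [QuotientGroup.out_eq', QuotientGroup.out_eq'] at h2
    · intro h; exact absurd (Finset.mem_univ _) h
  have h1 := hli.fintype_card_le_finrank
  rw [Module.finrank_linearMap, ← Nat.card_eq_fintype_card] at h1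
  exact h1

section Matrix

variable {ι : Type} [Fintype ι] [DecidableEq ι] (b : Basis ι K W)

/-- the operator with matrix coefficients `c` supported on `S` -/
noncomputable def opOf (S : Set (ι × ι)) [Fintype S] : (S → K) →ₗ[K] Module.End K W where
  toFun c := ∑ kl : S, c kl • ((b.coord kl.1.2).smulRight (b kl.1.1))
  map_add' c d := by
    simp only [Pi.add_apply, add_smul, Finset.sum_add_distrib]
  map_smul' r c := by
    simp only [Pi.smul_apply, smul_eq_mul, mul_smul, Finset.smul_sum, RingHom.id_apply]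

omit [Fintype ι] [DecidableEq ι] in
theorem opOf_apply (S : Set (ι × ι)) [Fintype S] (c : S → K) :
    opOf b S c = ∑ kl : S, c kl • ((b.coord kl.1.2).smulRight (b kl.1.1)) := rfl

omit [Fintype ι] in
theorem opOf_injective (S : Set (ι × ι)) [Fintype S] : Function.Injective (opOf b S) := by
  rw [injective_iff_map_eq_zero]
  intro c hc
  ext kl
  have h1 := congrArg (fun T : Module.End K W => b.coord kl.1.1 (T (b kl.1.2))) hc
  simp only [opOf_apply, LinearMap.sum_apply, LinearMap.smul_apply, LinearMap.smulRight_apply, map_sum,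
    map_smul, LinearMap.zero_apply, map_zero, smul_eq_mul, Basis.coord_apply, Basis.repr_self] at h1
  rw [Finset.sum_eq_single kl] at h1
  · simpa using h1
  · intro kl' _ hne
    by_cases h2 : kl'.1.2 = kl.1.2
    · by_cases h3 : kl'.1.1 = kl.1.1
      · exact absurd (Subtype.ext (Prod.ext h3 h2)) hne
      · rw [Finsupp.single_apply, Finsupp.single_apply, if_neg h3]; ring
    · rw [Finsupp.single_apply, if_neg (fun h => h2 h.symm)]; ring
  · intro h; exact absurd (Finset.mem_univ _) h

omit [Fintype ι] [DecidableEq ι] in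
theorem opOf_twist (γ : Module.End K W) (g : ι → K) (hγ : ∀ k, γ (b k) = g k • b k) (r : K)
    (S : Set (ι × ι)) [Fintype S] (hS : ∀ kl ∈ S, g kl.1 = r * g kl.2) (c : S → K) :
    γ * opOf b S c = r • (opOf b S c * γ) := by
  apply b.ext
  intro l
  classical
  rw [Module.End.mul_apply, LinearMap.smul_apply, Module.End.mul_apply, hγ, map_smul]
  simp only [opOf_apply, LinearMap.sum_apply, LinearMap.smul_apply, LinearMap.smulRight_apply, map_sum,
    map_smul, Basis.coord_apply, Basis.repr_self, hγ, Finset.smul_sum]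
  refine Finset.sum_congr rfl fun kl _ => ?_
  by_cases h : l = kl.1.2
  · subst h
    rw [Finsupp.single_eq_same, one_smul, one_smul, hS kl.1 kl.2]
    simp only [smul_smul]
    congr 1; ring
  · rw [Finsupp.single_apply, if_neg h]
    simp

end Matrix

section Eigen

variable {ρ : P →* Module.End K W} {ω : P → K}

theorem trace_center_mul (hc : CentralChar ρ ω) (B : Module.End K W) {z : P} (hz : z ∈ Subgroup.center P)
    (x : P) (hx : LinearMap.trace K W (B * ρ x⁻¹) = 0) :
    LinearMap.trace K W (B * ρ (z * x)⁻¹) = 0 := by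
  have e : ρ (z * x)⁻¹ = ω z⁻¹ • ρ x⁻¹ := by
    rw [mul_inv_rev, map_mul, hc.scalar _ ((mem_center_inv_iff z).2 hz), mul_smul_comm, mul_one]
  rw [e, mul_smul_comm, map_smul, hx, smul_zero]

theorem trace_apply_aut (α : MulAut P) (γ δ : Module.End K W) (hγδ : γ * δ = 1) (hδγ : δ * γ = 1)
    (hγρ : ∀ x, γ * ρ x = ρ (α x) * γ) (B : Module.End K W) (r : K) (hB : γ * B = r • (B * γ)) (x : P) :
    LinearMap.trace K W (B * ρ x⁻¹) = r * LinearMap.trace K W (B * ρ (α x)⁻¹) := by
  have e1 : ρ (α x)⁻¹ = γ * ρ x⁻¹ * δ := by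
    rw [hγρ, mul_assoc, hγδ, mul_one, map_inv α]
  have e2 : r • (B * ρ (α x)⁻¹) = γ * (B * ρ x⁻¹) * δ := by
    rw [e1, ← mul_assoc, ← mul_assoc, ← smul_mul_assoc, ← smul_mul_assoc, ← hB]
    simp only [mul_assoc]
  have e3 : r * LinearMap.trace K W (B * ρ (α x)⁻¹) = LinearMap.trace K W (r • (B * ρ (α x)⁻¹)) := by
    rw [map_smul, smul_eq_mul]
  rw [e3, e2, LinearMap.trace_mul_comm K (γ * (B * ρ x⁻¹)) δ, ← mul_assoc, hδγ, one_mul]

/-- the zero set of `x ↦ tr(B ρ(x⁻¹))` is stable under `⟨α⟩` -/
theorem trace_zpowers (α : MulAut P) (γ δ : Module.End K W) (hγδ : γ * δ = 1) (hδγ : δ * γ = 1)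
    (hγρ : ∀ x, γ * ρ x = ρ (α x) * γ) (B : Module.End K W) (r : K) (hr : r ≠ 0) (hB : γ * B = r • (B * γ))
    {a : MulAut P} (ha : a ∈ Subgroup.zpowers α) (x : P) :
    LinearMap.trace K W (B * ρ (a x)⁻¹) = 0 ↔ LinearMap.trace K W (B * ρ x⁻¹) = 0 := by
  let S : Subgroup (MulAut P) :=
    { carrier := {a | ∀ x, LinearMap.trace K W (B * ρ (a x)⁻¹) = 0 ↔ LinearMap.trace K W (B * ρ x⁻¹) = 0}
      mul_mem' := by
        intro a b ha hb x
        exact (ha (b x)).trans (hb x)
      one_mem' := fun x => Iff.rfl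
      inv_mem' := by
        intro a ha x
        have := ha (a⁻¹ x)
        rw [show a (a⁻¹ x) = x from a.apply_symm_apply x] at this
        exact this.symm }
  have hS : Subgroup.zpowers α ≤ S := by
    rw [Subgroup.zpowers_le]
    intro x
    rw [trace_apply_aut α γ δ hγδ hδγ hγρ B r hB x]
    constructor
    · intro h; rw [h, mul_zero]
    · intro h; exact (mul_eq_zero.1 h).resolve_left hr
  exact hS ha x

end Eigen

/-- The hypotheses on the group `P`, its automorphism `α` of order `h`. -/
structure GroupHyp (P : Type*) [Group P] (p n h : ℕ) (α : MulAut P) : Prop where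
  prime : p.Prime
  card_center : Nat.card (Subgroup.center P) = p
  card : Nat.card P = p ^ (2 * n + 1)
  fix : ∀ z ∈ Subgroup.center P, α z = z
  order : orderOf α = h
  free : ∀ a ∈ Subgroup.zpowers α, a ≠ 1 → ∀ x : P, x ∉ Subgroup.center P →
      ∀ z ∈ Subgroup.center P, z * a x ≠ x

section Main

variable {ρ : P →* Module.End K W} {ω : P → K}

open Classical in
theorem main [Finite P] [IsAlgClosed K] [FiniteDimensional K W] (hρ : Irr ρ) (hc : CentralChar ρ ω)
    {p n h : ℕ} [NeZero h] {α : MulAut P} (H : GroupHyp P p n h α) (hpK : (p : K) ≠ 0) (hhK : (h : K) ≠ 0)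
    (γ : Module.End K W) (hγ : γ ^ h = 1) (hγρ : ∀ x, γ * ρ x = ρ (α x) * γ) :
    ∃ c : ℕ, (p ^ n = h * c + 1 ∨ p ^ n + 1 = h * (c + 1)) ∧ (c ≠ 0 → ∃ w : W, w ≠ 0 ∧ γ w = w) := by
  have hftP := Fintype.ofFinite P
  have hPK : (Nat.card P : K) ≠ 0 := by rw [H.card, Nat.cast_pow]; exact pow_ne_zero _ hpK
  have hZK : (Nat.card (Subgroup.center P) : K) ≠ 0 := by rw [H.card_center]; exact hpK
  have hN := finrank_ne_zero hρ hPK
  -- primitive root
  have : NeZero (h : K) := ⟨hhK⟩
  obtain ⟨ζ, hζ⟩ := HasEnoughRootsOfUnity.exists_primitiveRoot K h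
  obtain ⟨ι, hι1, hι2, b, f, hf⟩ := Diag.exists_eigenbasis γ h hhK hγ ζ hζ
  have hζ0 : ζ ≠ 0 := hζ.ne_zero (NeZero.ne h)
  -- inverse of γ
  have hh1 : 1 ≤ h := Nat.one_le_iff_ne_zero.2 (NeZero.ne h)
  have hγδ : γ * γ ^ (h - 1) = 1 := by rw [← pow_succ', Nat.sub_add_cancel hh1, hγ]
  have hδγ : γ ^ (h - 1) * γ = 1 := by rw [← pow_succ, Nat.sub_add_cancel hh1, hγ]
  -- the orbits
  let _act := action α H.fix
  let Ω := Quotient (MulAction.orbitRel
      (Subgroup.center P × Subgroup.zpowers α) {x : P // x ∉ Subgroup.center P})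
  have hΩ : p ^ (2 * n) = 1 + h * Nat.card Ω :=
    card_eq p n h H.prime.pos H.card_center H.card α H.fix H.order H.free
  have hΩft : Fintype Ω := Fintype.ofFinite Ω
  -- the key vanishing statement
  have key : ∀ (B : Module.End K W) (r : K), r ≠ 0 → γ * B = r • (B * γ) →
      LinearMap.trace K W (B * ρ (1 : P)⁻¹) = 0 →
      (∀ o : Ω, LinearMap.trace K W (B * ρ (o.out : P)⁻¹) = 0) → B = 0 := by
    intro B r hr hB h1 ho
    apply eq_zero_of_trace hρ hc hPK hZK
    intro t
    by_cases ht : t ∈ Subgroup.center P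
    · have := trace_center_mul hc B ht 1 h1
      rwa [mul_one] at this
    · have h2 : (Quotient.mk'' ⟨t, ht⟩ : Ω).out ∈ MulAction.orbit
          (Subgroup.center P × Subgroup.zpowers α) (⟨t, ht⟩ : {x : P // x ∉ Subgroup.center P}) :=
        MulAction.orbitRel_apply.1 (Quotient.mk_out (s := MulAction.orbitRel
          (Subgroup.center P × Subgroup.zpowers α) {x : P // x ∉ Subgroup.center P}) ⟨t, ht⟩)
      rw [MulAction.mem_orbit_symm] at h2
      obtain ⟨⟨z, a⟩, hza⟩ := h2
      have h3 : (z : P) * (a : MulAut P) ((Quotient.mk'' ⟨t, ht⟩ : Ω).out : P) = t := congrArg Subtype.val hza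
      rw [← h3]
      apply trace_center_mul hc B z.2
      rw [trace_zpowers α γ (γ ^ (h - 1)) hγδ hδγ hγρ B r hr hB a.2]
      exact ho _
  -- the sets S_j
  let S : ZMod h → Set (ι × ι) := fun j => {kl | f kl.1 = f kl.2 + j}
  have hmemS : ∀ j kl, kl ∈ S j ↔ f kl.1 = f kl.2 + j := fun _ _ => Iff.rfl
  have hpow : ∀ i j : ZMod h, ζ ^ (i + j).val = ζ ^ j.val * ζ ^ i.val := by
    intro i j
    rw [← pow_add, ZMod.val_add, add_comm]
    conv_rhs => rw [← Nat.mod_add_div (j.val + i.val) h, pow_add, pow_mul, hζ.pow_eq_one, one_pow, mul_one]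
  have htw : ∀ j (c : S j → K), γ * opOf b (S j) c = ζ ^ j.val • (opOf b (S j) c * γ) := by
    intro j c
    refine opOf_twist b γ (fun k => ζ ^ (f k).val) hf _ (S j) ?_ c
    intro kl hkl
    rw [(hmemS j kl).1 hkl, hpow]
  -- bound for j ≠ 0
  have hb1 : ∀ j : ZMod h, j ≠ 0 → Fintype.card (S j) ≤ Fintype.card Ω := by
    intro j hj
    let L : (S j → K) →ₗ[K] (Ω → K) :=
      LinearMap.pi (fun o => (LinearMap.trace K W) ∘ₗ
        (LinearMap.mulRight K (ρ (o.out : P)⁻¹)) ∘ₗ opOf b (S j))
    have hL : Function.Injective L := by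
      rw [injective_iff_map_eq_zero]
      intro c hcz
      apply opOf_injective b (S j)
      rw [map_zero]
      have hr : ζ ^ j.val ≠ 1 := by
        intro h1
        have h2 := hζ.dvd_of_pow_eq_one _ h1
        have h3 := ZMod.val_lt j
        have h4 : j.val = 0 := Nat.eq_zero_of_dvd_of_lt h2 h3
        exact hj ((ZMod.val_eq_zero j).1 h4)
      refine key _ (ζ ^ j.val) (pow_ne_zero _ hζ0) (htw j c) ?_ ?_
      · have h5 := trace_apply_aut α γ (γ ^ (h - 1)) hγδ hδγ hγρ _ _ (htw j c) 1
        rw [map_one α] at h5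
        have h6 : (1 - ζ ^ j.val) * LinearMap.trace K W (opOf b (S j) c * ρ (1 : P)⁻¹) = 0 := by
          rw [sub_mul, one_mul, ← h5, sub_self]
        rcases mul_eq_zero.1 h6 with h | h
        · exact absurd (sub_eq_zero.1 h).symm hr
        · exact h
      · intro o
        exact congrFun hcz o
    have h7 := LinearMap.finrank_le_finrank_of_injective hL
    rwa [Module.finrank_fintype_fun_eq_card, Module.finrank_fintype_fun_eq_card] at h7
  have hb0 : Fintype.card (S 0) ≤ Fintype.card Ω + 1 := by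
    let L : (S 0 → K) →ₗ[K] (Option Ω → K) :=
      LinearMap.pi (fun o => (LinearMap.trace K W) ∘ₗ
        (LinearMap.mulRight K (ρ ((o.map (fun o : Ω => (o.out : P))).getD 1)⁻¹)) ∘ₗ opOf b (S 0))
    have hL : Function.Injective L := by
      rw [injective_iff_map_eq_zero]
      intro c hcz
      apply opOf_injective b (S 0)
      rw [map_zero]
      refine key _ (ζ ^ (0 : ZMod h).val) (pow_ne_zero _ hζ0) (htw 0 c) ?_ ?_
      · exact congrFun hcz none
      · intro o
        exact congrFun hcz (some o)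
    have h7 := LinearMap.finrank_le_finrank_of_injective hL
    rwa [Module.finrank_fintype_fun_eq_card, Module.finrank_fintype_fun_eq_card, Fintype.card_option] at h7
  -- multiplicities
  let n' : ZMod h → ℕ := fun i => (Finset.univ.filter fun k : ι => f k = i).card
  have hcomp : ∀ g : ZMod h → ℕ, ∑ l : ι, g (f l) = ∑ i, n' i * g i := by
    intro g
    have h1 : ∀ l : ι, g (f l) = ∑ i, if f l = i then g i else 0 := by
      intro l
      rw [Finset.sum_ite_eq]; simp
    rw [Finset.sum_congr rfl fun l _ => h1 l, Finset.sum_comm]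
    refine Finset.sum_congr rfl fun i _ => ?_
    rw [← Finset.sum_filter, Finset.sum_const, smul_eq_mul]
  have hcardS : ∀ j, Fintype.card (S j) = ∑ i, n' i * n' (i + j) := by
    intro j
    rw [← hcomp (fun i => n' (i + j))]
    have h1 : Fintype.card (S j) = (Finset.univ.filter fun kl : ι × ι => f kl.1 = f kl.2 + j).card := by
      rw [Fintype.card_subtype]
      congr 1
    rw [h1, Finset.card_filter, Fintype.sum_prod_type_right]
    refine Finset.sum_congr rfl fun l _ => ?_
    rw [← Finset.card_filter]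
  have hsumn : ∑ i, n' i = Fintype.card ι := by
    have := hcomp (fun _ => 1)
    simp only [mul_one, Finset.sum_const, smul_eq_mul] at this
    rw [← this, Finset.card_univ]
  have hfr : finrank K W = Fintype.card ι := Module.finrank_eq_card_basis b
  have hsumS : ∑ j, Fintype.card (S j) = Fintype.card ι * Fintype.card ι := by
    rw [Finset.sum_congr rfl fun j _ => hcardS j, Finset.sum_comm]
    have h1 : ∀ i : ZMod h, ∑ j, n' i * n' (i + j) = n' i * Fintype.card ι := by
      intro i
      rw [← Finset.mul_sum]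
      congr 1
      rw [← hsumn]
      exact Fintype.sum_equiv (Equiv.addLeft i) _ _ (fun _ => rfl)
    rw [Finset.sum_congr rfl fun i _ => h1 i, ← Finset.sum_mul, hsumn]
  have hquot : Nat.card (P ⧸ Subgroup.center P) = p ^ (2 * n) := by
    have h1 := Subgroup.card_eq_card_quotient_mul_card_subgroup (Subgroup.center P)
    rw [H.card, H.card_center, pow_succ] at h1
    exact (Nat.eq_of_mul_eq_mul_right H.prime.pos h1).symm
  have hge : p ^ (2 * n) ≤ Fintype.card ι * Fintype.card ι := by
    rw [← hquot, ← hfr]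
    exact card_quot_le hc hN
  have hcardΩ : Nat.card Ω = Fintype.card Ω := Nat.card_eq_fintype_card
  rw [hcardΩ] at hΩ
  -- equality everywhere
  have hsplit : ∑ j, Fintype.card (S j) = Fintype.card (S 0) + ∑ j ∈ Finset.univ.erase (0 : ZMod h), Fintype.card (S j) :=
    (Finset.add_sum_erase Finset.univ _ (Finset.mem_univ (0 : ZMod h))).symm
  have hcarderase : (Finset.univ.erase (0 : ZMod h)).card = h - 1 := by
    rw [Finset.card_erase_of_mem (Finset.mem_univ _), Finset.card_univ, ZMod.card]
  have hle2 : ∑ j ∈ Finset.univ.erase (0 : ZMod h), Fintype.card (S j) ≤ (h - 1) * Fintype.card Ω := by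
    rw [← hcarderase, ← smul_eq_mul, ← Finset.sum_const]
    exact Finset.sum_le_sum fun j hj => hb1 j (Finset.ne_of_mem_erase hj)
  have hhΩ : h * Fintype.card Ω = (h - 1) * Fintype.card Ω + Fintype.card Ω := by
    conv_lhs => rw [← Nat.sub_add_cancel hh1]
    ring
  have heq0 : Fintype.card (S 0) = Fintype.card Ω + 1 := by omega
  have heqs : ∑ j ∈ Finset.univ.erase (0 : ZMod h), Fintype.card (S j) = (h - 1) * Fintype.card Ω := by omega
  have heq1 : ∀ j : ZMod h, j ≠ 0 → Fintype.card (S j) = Fintype.card Ω := by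
    intro j hj
    rw [← hcarderase, ← smul_eq_mul, ← Finset.sum_const] at heqs
    exact (Finset.sum_eq_sum_iff_of_le fun j hj => hb1 j (Finset.ne_of_mem_erase hj)).1 heqs j
      (Finset.mem_erase.2 ⟨hj, Finset.mem_univ _⟩)
  have hcardι : Fintype.card ι = p ^ n := by
    have h1 : Fintype.card ι * Fintype.card ι = p ^ n * p ^ n := by
      rw [← hsumS, hsplit, heq0, heqs, ← pow_add, ← two_mul, hΩ, hhΩ]; ring
    exact Nat.mul_self_inj.1 h1
  obtain ⟨c, ⟨i₀, hi₀⟩, hmin, hfin⟩ := Comb.multiplicities h (fun i => (n' i : ℤ)) (Fintype.card Ω)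
    (by
      have := hcardS 0
      rw [heq0] at this
      simp only [add_zero] at this
      exact_mod_cast this.symm)
    (by
      intro j hj
      have := hcardS j
      rw [heq1 j hj] at this
      exact_mod_cast this.symm)
  refine ⟨n' i₀, ?_, ?_⟩
  · rw [← hi₀] at hfin
    have h2 : ∑ i, (n' i : ℤ) = ((p ^ n : ℕ) : ℤ) := by
      rw [← hcardι, ← hsumn, Nat.cast_sum]
    rw [h2] at hfin
    rcases hfin with h | h
    · left; exact_mod_cast h
    · right; exact_mod_cast h
  · intro hne
    have h1 : (n' i₀ : ℤ) ≤ n' 0 := by rw [hi₀]; exact hmin 0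
    have h2 : n' 0 ≠ 0 := by
      intro h; rw [h] at h1
      apply hne
      exact_mod_cast le_antisymm h1 (Int.natCast_nonneg _)
    obtain ⟨k, hk⟩ := Finset.card_ne_zero.1 h2
    have hk' : f k = 0 := (Finset.mem_filter.1 hk).2
    refine ⟨b k, b.ne_zero k, ?_⟩
    rw [hf k, hk', ZMod.val_zero, pow_zero, one_smul]

end Main

end Cfsg.Agent.OddOrderLocal.ExtraCycle.Irred
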